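import Groth.Agent.SopTight.Basic
import Groth.Agent.Miracle.Basic
import Mathlib.LinearAlgebra.Matrix.Adjugate
import Mathlib.LinearAlgebra.Matrix.Transvection

/-!
# The determinant of a transition matrix between systems of parameters
-/

namespace Groth.Agent.InvGor

open IsLocalRing Matrix

universe u

theorem det_updateCol_smul_add {n : ℕ} {R : Type u} [CommRing R] (a : Matrix (Fin n) (Fin n) R) (x : Fin n → R)
    (j : Fin n) : (a.updateCol j (a *ᵥ x)).det = x j * a.det := by
  have : a.updateCol j (a *ᵥ x) = a.updateCol j (∑ l, x l • fun i => a i l) := by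
    congr 1
    funext i
    simp [Matrix.mulVec, dotProduct, Finset.sum_apply, mul_comm]
  rw [this]
  have h := Matrix.det_updateCol_sum a j x
  have e : (∑ l, x l • fun i => a i l) = fun k => ∑ l, x l * a k l := by
    funext k
    simp [Finset.sum_apply]
  rw [e]
  simpa [smul_eq_mul] using h

/-- Passing to parameters: the determinant of a transition matrix is outside the smaller ideal. -/
theorem det_notMem (n : ℕ) : ∀ {S : Type u} [CommRing S] [LocCoh.IsCohenMacaulayLocalRing S],
    ringKrullDim S = n → ∀ (x f : Fin n → S) (a : Matrix (Fin n) (Fin n) S),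
      Ideal.span (Set.range x) = maximalIdeal S → f = a *ᵥ x → SopTight.IsSop f →
      a.det ∉ Ideal.span (Set.range f) := by
  induction n with
  | zero =>
    intro S _ _ _ x f a _ _ _ h
    rw [Matrix.det_isEmpty, Set.range_eq_empty, Ideal.span_empty] at h
    exact one_ne_zero ((Submodule.mem_bot S).1 h)
  | succ n ih =>
    intro S _ _ hdim x f a hx hfa hf hdet
    classical
    let F' := SopTight.others f (Fin.last n)
    have hF'm : F' ≤ maximalIdeal S := Ideal.span_le.2 (by rintro _ ⟨i, -, rfl⟩; exact hf.mem i)
    have hlastreg : ∀ z, f (Fin.last n) * z ∈ F' → z ∈ F' := fun z hz => hf.mem_of_mul_mem hdim _ hz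
    have hminne : ∀ P ∈ F'.minimalPrimes, ¬ maximalIdeal S ≤ P := by
      intro P hP hle
      haveI := hP.1.1
      have hPm : P = maximalIdeal S := le_antisymm (le_maximalIdeal hP.1.1.ne_top) hle
      have hht : P.height ≤ n := by
        have h1 := Ideal.height_le_card_of_mem_minimalPrimes_span_finset (R := S)
          (s := (Finset.univ.erase (Fin.last n)).image f) (p := P) (by
            rw [Finset.coe_image, Finset.coe_erase, Finset.coe_univ, ← Set.compl_eq_univ_diff]
            exact hP)
        refine h1.trans ?_
        norm_cast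
        refine Finset.card_image_le.trans ?_
        simp
      rw [hPm] at hht
      have hd := maximalIdeal_height_eq_ringKrullDim (R := S)
      rw [hdim] at hd
      have hd' : (maximalIdeal S).height = ((n + 1 : ℕ) : ℕ∞) := WithBot.coe_inj.1 (by rw [hd]; rfl)
      rw [hd'] at hht
      norm_cast at hht
      omega
    obtain ⟨y, hy, hy2, hyP⟩ : ∃ y ∈ maximalIdeal S, y ∉ maximalIdeal S ^ 2 ∧ ∀ P ∈ F'.minimalPrimes, y ∉ P := by
      by_contra h
      push Not at h
      let s := F'.finite_minimalPrimes_of_isNoetherianRing S |>.toFinset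
      have hsub : (maximalIdeal S : Set S) ⊆ ⋃ P ∈ ((insert (maximalIdeal S ^ 2) s : Finset (Ideal S)) : Set (Ideal S)), (P : Set S) := by
        intro y hy
        by_cases hy2 : y ∈ maximalIdeal S ^ 2
        · exact Set.mem_iUnion₂.2 ⟨_, by simp, hy2⟩
        · obtain ⟨P, hP, hyP⟩ := h y hy hy2
          exact Set.mem_iUnion₂.2 ⟨P, by simp [s, hP], hyP⟩
      obtain ⟨P, hP, hmP⟩ := (Ideal.subset_union_prime (maximalIdeal S ^ 2) (maximalIdeal S ^ 2) (fun P hP h1 _ => by
        rw [Finset.mem_insert] at hP
        exact (((Set.Finite.mem_toFinset _).1 (hP.resolve_left h1))).1.1)).1 hsub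
      rw [Finset.mem_insert] at hP
      rcases hP with rfl | hP
      · have h0 : maximalIdeal S = ⊥ := Submodule.eq_bot_of_le_smul_of_le_jacobson_bot (maximalIdeal S)
          (maximalIdeal S) (IsNoetherian.noetherian _) (by rwa [smul_eq_mul, ← pow_two])
          (maximalIdeal_le_jacobson ⊥)
        have hd := maximalIdeal_height_eq_ringKrullDim (R := S)
        rw [hdim, h0, Ideal.height_bot] at hd
        have : ((0 : ℕ∞) : WithBot ℕ∞) = ((n + 1 : ℕ) : WithBot ℕ∞) := hd
        have h2 : (0 : ℕ∞) = ((n + 1 : ℕ) : ℕ∞) := WithBot.coe_inj.1 this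
        norm_cast at h2
      · exact hminne P ((Set.Finite.mem_toFinset _).1 hP) hmP
    obtain ⟨c, hc⟩ := (Submodule.mem_span_range_iff_exists_fun S).1 (hx ▸ hy : y ∈ Ideal.span (Set.range x))
    obtain ⟨j, hj⟩ : ∃ j, IsUnit (c j) := by
      by_contra h
      push Not at h
      apply hy2
      rw [← hc, pow_two]
      exact Ideal.sum_mem _ fun i _ => Ideal.mul_mem_mul (h i) (hx ▸ Ideal.subset_span ⟨i, rfl⟩)
    let T : Matrix (Fin (n + 1)) (Fin (n + 1)) S := (1 : Matrix (Fin (n + 1)) (Fin (n + 1)) S).updateRow j c
    have hTdet : T.det = c j := by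
      have h1 : (1 : Matrix (Fin (n + 1)) (Fin (n + 1)) S).updateRow j c =
          ((1 : Matrix (Fin (n + 1)) (Fin (n + 1)) S).updateCol j c)ᵀ := by
        rw [← Matrix.updateRow_transpose, Matrix.transpose_one]
      change Matrix.det ((1 : Matrix (Fin (n + 1)) (Fin (n + 1)) S).updateRow j c) = c j
      rw [h1, Matrix.det_transpose, ← Matrix.cramer_apply, Matrix.cramer_one]
      rfl
    have hTx : ∀ i, (T *ᵥ x) i = if i = j then y else x i := by
      intro i
      by_cases hi : i = j
      · subst hi
        rw [if_pos rfl, ← hc]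
        simp [T, Matrix.mulVec, dotProduct, smul_eq_mul]
      · rw [if_neg hi]
        simp only [T, Matrix.mulVec, dotProduct, Matrix.updateRow_ne hi]
        simp [Matrix.one_apply]
    have hTu : IsUnit T.det := hTdet ▸ hj
    let σ : Fin (n + 1) ≃ Fin (n + 1) := Equiv.swap j (Fin.last n)
    let x' : Fin (n + 1) → S := fun i => (T *ᵥ x) (σ i)
    let a' : Matrix (Fin (n + 1)) (Fin (n + 1)) S := (a * T⁻¹).submatrix id σ
    have hfa' : f = a' *ᵥ x' := by
      funext i
      simp only [a', x', Matrix.mulVec, dotProduct, Matrix.submatrix_apply, id]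
      rw [Equiv.sum_comp σ (fun l => (a * T⁻¹) i l * ∑ m, T l m * x m)]
      change f i = ((a * T⁻¹) *ᵥ (T *ᵥ x)) i
      rw [Matrix.mulVec_mulVec, Matrix.mul_assoc, Matrix.nonsing_inv_mul _ hTu, Matrix.mul_one, hfa]
    have hdet' : a'.det ∈ Ideal.span (Set.range f) := by
      change ((a * T⁻¹).submatrix id σ).det ∈ _
      rw [Matrix.det_permute', Matrix.det_mul]
      exact Ideal.mul_mem_left _ _ (Ideal.mul_mem_right _ _ hdet)
    have hx'y : x' (Fin.last n) = y := by
      change (T *ᵥ x) (σ (Fin.last n)) = y
      rw [hTx, if_pos (Equiv.swap_apply_right j (Fin.last n))]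
    have hx'span : Ideal.span (Set.range x') = maximalIdeal S := by
      refine le_antisymm (Ideal.span_le.2 ?_) ?_
      · rintro _ ⟨i, rfl⟩
        change ∑ m, T (σ i) m * x m ∈ maximalIdeal S
        refine Ideal.sum_mem _ fun m _ => Ideal.mul_mem_left _ _ ?_
        rw [← hx]
        exact Ideal.subset_span ⟨m, rfl⟩
      · rw [← hx, Ideal.span_le]
        rintro _ ⟨i, rfl⟩
        have h1 : x = T⁻¹ *ᵥ (T *ᵥ x) := by
          rw [Matrix.mulVec_mulVec, Matrix.nonsing_inv_mul _ hTu, Matrix.one_mulVec]
        rw [h1]
        change ∑ m, T⁻¹ i m * (T *ᵥ x) m ∈ Ideal.span (Set.range x')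
        refine Ideal.sum_mem _ fun m _ => Ideal.mul_mem_left _ _ ?_
        refine Ideal.subset_span ⟨σ.symm m, ?_⟩
        simp [x']
    -- the system `F', y`
    let f'' : Fin (n + 1) → S := Function.update f (Fin.last n) y
    have hsop : SopTight.IsSop f'' := by
      refine le_antisymm ?_ ?_
      · rw [(maximalIdeal.isMaximal S).isPrime.radical_le_iff, SopTight.span_range_update]
        exact sup_le hF'm ((Ideal.span_singleton_le_iff_mem _).2 hy)
      · rw [Ideal.radical_eq_sInf]
        refine le_sInf ?_
        rintro P ⟨hP, hPp⟩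
        by_contra hnle
        rw [SopTight.span_range_update] at hP
        obtain ⟨Q, hQ, hQP⟩ := Ideal.exists_minimalPrimes_le (le_sup_left.trans hP : F' ≤ P)
        have hyP' : y ∈ P := hP (Ideal.mem_sup_right (Ideal.mem_span_singleton_self y))
        have hne : Q ≠ P := fun h => hyP Q hQ (h ▸ hyP')
        haveI := hQ.1.1
        haveI := hPp
        -- `Q < P < 𝔪` contradicts that one more parameter cuts `F'` down to the maximal ideal
        have h1 : Q.height + 1 ≤ P.height :=
          Ideal.height_add_one_le_of_lt_of_isPrime (lt_of_le_of_ne hQP hne)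
        have hPlt : P < maximalIdeal S :=
          lt_of_le_of_ne (le_maximalIdeal hPp.ne_top) fun h => hnle h.ge
        have h2 : P.height + 1 ≤ (maximalIdeal S).height := Ideal.height_add_one_le_of_lt_of_isPrime hPlt
        -- in `S ⧸ Q` the element `f n` generates an ideal primary to the maximal ideal
        let q := Ideal.Quotient.mk Q
        have hmP : (P.map q).IsPrime :=
          Ideal.map_isPrime_of_surjective Ideal.Quotient.mk_surjective (by rw [Ideal.mk_ker]; exact hQP)
        have hmin : (maximalIdeal S).map q ∈ (Ideal.span (({q (f (Fin.last n))} : Finset (S ⧸ Q)) : Set (S ⧸ Q))).minimalPrimes := by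
          refine ⟨⟨Ideal.map_isPrime_of_surjective Ideal.Quotient.mk_surjective (by
            rw [Ideal.mk_ker]; exact hQP.trans (le_maximalIdeal hPp.ne_top)), ?_⟩, ?_⟩
          · rw [Finset.coe_singleton, Ideal.span_singleton_le_iff_mem]
            exact Ideal.mem_map_of_mem _ (hf.mem _)
          · intro J hJ _
            rw [Finset.coe_singleton, Ideal.span_singleton_le_iff_mem] at hJ
            rw [Ideal.map_le_iff_le_comap, ← hf]
            haveI := hJ.1
            rw [(Ideal.IsPrime.comap q).radical_le_iff, SopTight.span_range_eq f (Fin.last n)]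
            refine sup_le (hQ.1.2.trans ?_) ((Ideal.span_singleton_le_iff_mem _).2 hJ.2)
            intro s hs
            rw [Ideal.mem_comap, Ideal.Quotient.eq_zero_iff_mem.2 hs]
            exact J.zero_mem
        have h3 := Ideal.height_le_card_of_mem_minimalPrimes_span_finset hmin
        rw [Finset.card_singleton] at h3
        have hsurj : Function.Surjective q := Ideal.Quotient.mk_surjective
        haveI : ((maximalIdeal S).map q).IsPrime := hmin.1.1
        haveI : ((⊥ : Ideal (S ⧸ Q))).IsPrime := Ideal.bot_prime
        have hlt1 : (⊥ : Ideal (S ⧸ Q)) < P.map q := by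
          refine bot_lt_iff_ne_bot.2 fun h => hne (le_antisymm hQP fun s hs => ?_)
          have : q s ∈ P.map q := Ideal.mem_map_of_mem _ hs
          rw [h, Submodule.mem_bot] at this
          exact Ideal.Quotient.eq_zero_iff_mem.1 this
        have hlt2 : P.map q < (maximalIdeal S).map q := by
          refine lt_of_le_of_ne (Ideal.map_mono hPlt.le) fun h => hPlt.ne ?_
          have := congrArg (Ideal.comap q) h
          rw [Ideal.comap_map_of_surjective _ hsurj, Ideal.comap_map_of_surjective _ hsurj,
            ← RingHom.ker_eq_comap_bot, Ideal.mk_ker, sup_eq_left.2 hQP, sup_eq_left.2 (hQP.trans hPlt.le)] at this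
          exact this
        have h4 := (add_le_add (Ideal.height_add_one_le_of_lt_of_isPrime hlt1) le_rfl).trans
          (Ideal.height_add_one_le_of_lt_of_isPrime hlt2)
        have h5 := h4.trans h3
        rw [Ideal.height_bot, zero_add] at h5
        norm_cast at h5
    have hyreg : ∀ z, y * z ∈ F' → z ∈ F' := by
      intro z hz
      have := hsop.mem_of_mul_mem hdim (Fin.last n) (z := z)
      simp only [f'', SopTight.others_update, Function.update_self] at this
      exact this hz
    -- Cramer
    let C : S := (a'.submatrix Fin.castSucc Fin.castSucc).det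
    have hcr : y * a'.det - C * f (Fin.last n) ∈ F' := by
      have h1 : (a'.updateCol (Fin.last n) f).det = y * a'.det := by
        rw [hfa', det_updateCol_smul_add, hx'y]
      rw [← h1, Matrix.det_succ_column _ (Fin.last n), Fin.sum_univ_castSucc]
      have h2 : ((-1 : S) ^ ((Fin.last n : ℕ) + (Fin.last n : ℕ))) * (a'.updateCol (Fin.last n) f) (Fin.last n) (Fin.last n) *
          ((a'.updateCol (Fin.last n) f).submatrix (Fin.last n).succAbove (Fin.last n).succAbove).det =
          C * f (Fin.last n) := by
        rw [Matrix.updateCol_self, ← two_mul, pow_mul, neg_one_sq, one_pow, one_mul, Fin.succAbove_last, mul_comm]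
        congr 2
        ext i l
        simp [Matrix.updateCol_ne (Fin.castSucc_lt_last l).ne]
      rw [h2, add_sub_cancel_right]
      refine Ideal.sum_mem _ fun i _ => Ideal.mul_mem_right _ _ (Ideal.mul_mem_left _ _ ?_)
      rw [Matrix.updateCol_self]
      exact Ideal.subset_span ⟨Fin.castSucc i, (Fin.castSucc_lt_last i).ne, rfl⟩
    have hC : C ∈ F' ⊔ Ideal.span {y} := by
      rw [SopTight.span_range_eq f (Fin.last n), Submodule.mem_sup] at hdet'
      obtain ⟨e, he, w, hw, hew⟩ := hdet'
      obtain ⟨u, rfl⟩ := Ideal.mem_span_singleton'.1 hw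
      have h1 : f (Fin.last n) * (y * u - C) ∈ F' := by
        have : f (Fin.last n) * (y * u - C) = (y * a'.det - C * f (Fin.last n)) - y * e := by
          rw [← hew]; ring
        rw [this]
        exact F'.sub_mem hcr (F'.mul_mem_left _ he)
      have h2 := hlastreg _ h1
      rw [show C = -(y * u - C) + y * u by ring]
      exact Ideal.add_mem _ (Ideal.mem_sup_left (F'.neg_mem h2))
        (Ideal.mem_sup_right (Ideal.mul_mem_right _ _ (Ideal.mem_span_singleton_self y)))
    -- cut by `y`
    let q := Ideal.Quotient.mk (Ideal.span {y})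
    have hdim' : ringKrullDim (S ⧸ Ideal.span {y}) = n := by
      have h1 : ringKrullDim (S ⧸ Ideal.span {y}) ≤ n := by
        haveI : Nontrivial (S ⧸ Ideal.span {y}) := Ideal.Quotient.nontrivial_iff.2
          (ne_top_of_le_ne_top (maximalIdeal.isMaximal S).ne_top ((Ideal.span_singleton_le_iff_mem _).2 hy))
        haveI : IsLocalRing (S ⧸ Ideal.span {y}) := .of_surjective' q Ideal.Quotient.mk_surjective
        haveI : IsLocalHom q := .of_surjective _ Ideal.Quotient.mk_surjective
        rw [← maximalIdeal_height_eq_ringKrullDim]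
        have hmin : maximalIdeal (S ⧸ Ideal.span {y}) ∈
            (Ideal.span (((Finset.univ.erase (Fin.last n)).image (q ∘ f) : Finset _) : Set (S ⧸ Ideal.span {y}))).minimalPrimes := by
          refine ⟨⟨(maximalIdeal.isMaximal _).isPrime, Ideal.span_le.2 ?_⟩, fun J hJ _ => ?_⟩
          · intro z hz
            simp only [Finset.coe_image, Set.mem_image, Function.comp_apply] at hz
            obtain ⟨i, -, rfl⟩ := hz
            exact map_nonunit q _ (hf.mem i)
          · haveI := hJ.1
            rw [← map_maximalIdeal_of_surjective q Ideal.Quotient.mk_surjective, Ideal.map_le_iff_le_comap,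
              ← hsop, (Ideal.IsPrime.comap q).radical_le_iff, SopTight.span_range_update]
            refine sup_le (Ideal.span_le.2 ?_) ((Ideal.span_singleton_le_iff_mem _).2 ?_)
            · rintro _ ⟨i, hi, rfl⟩
              refine hJ.2 (Ideal.subset_span ?_)
              simp only [Finset.coe_image, Set.mem_image, Finset.coe_erase, Function.comp_apply]
              exact ⟨i, ⟨by simp, hi⟩, rfl⟩
            · rw [Ideal.mem_comap, Ideal.Quotient.eq_zero_iff_mem.2 (Ideal.mem_span_singleton_self y)]
              exact J.zero_mem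
        refine WithBot.coe_le_coe.2 ((Ideal.height_le_card_of_mem_minimalPrimes_span_finset hmin).trans ?_)
        norm_cast
        exact Finset.card_image_le.trans (by simp)
      obtain ⟨-, -, h2⟩ := Miracle.isCohenMacaulayLocalRing_quotient hy (by
        rw [hdim, Nat.cast_succ]; exact add_le_add h1 le_rfl)
      rw [hdim] at h2
      generalize ringKrullDim (S ⧸ Ideal.span {y}) = d at h1 h2
      induction d using WithBot.recBotCoe with
      | bot => exact absurd h2 (by rw [WithBot.bot_add]; exact fun h => WithBot.bot_ne_natCast _ h)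
      | coe e =>
        induction e using ENat.recTopCoe with
        | top => exact absurd (WithBot.coe_le_coe.1 h1) (by simp)
        | coe e => norm_cast at h2 ⊢; omega
    obtain ⟨-, hCM, -⟩ := Miracle.isCohenMacaulayLocalRing_quotient hy (by rw [hdim, hdim']; norm_cast)
    haveI := hCM
    haveI : IsLocalHom q := .of_surjective _ Ideal.Quotient.mk_surjective
    refine ih hdim' (fun i => q (x' (Fin.castSucc i))) (fun i => q (f (Fin.castSucc i)))
      ((a'.submatrix Fin.castSucc Fin.castSucc).map q) ?_ ?_ ?_ ?_
    · rw [← map_maximalIdeal_of_surjective q Ideal.Quotient.mk_surjective, ← hx'span, Ideal.map_span]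
      refine le_antisymm (Ideal.span_mono ?_) (Ideal.span_le.2 ?_)
      · rintro _ ⟨i, rfl⟩
        exact ⟨_, ⟨_, rfl⟩, rfl⟩
      · rintro _ ⟨_, ⟨i, rfl⟩, rfl⟩
        induction i using Fin.lastCases with
        | last =>
          rw [hx'y, SetLike.mem_coe, Ideal.Quotient.eq_zero_iff_mem.2 (Ideal.mem_span_singleton_self y)]
          exact Submodule.zero_mem _
        | cast i => exact Ideal.subset_span ⟨i, rfl⟩
    · funext i
      simp only [Matrix.mulVec, dotProduct, Matrix.map_apply, Matrix.submatrix_apply]
      conv_lhs => rw [hfa']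
      simp only [Matrix.mulVec, dotProduct, Fin.sum_univ_castSucc, map_add, map_sum, map_mul]
      rw [hx'y, Ideal.Quotient.eq_zero_iff_mem.2 (Ideal.mem_span_singleton_self y), mul_zero, add_zero]
    · refine le_antisymm ?_ ?_
      · rw [(maximalIdeal.isMaximal _).isPrime.radical_le_iff, Ideal.span_le]
        rintro _ ⟨i, rfl⟩
        exact map_nonunit q _ (hf.mem _)
      · rw [← map_maximalIdeal_of_surjective q Ideal.Quotient.mk_surjective, ← hsop]
        refine (Ideal.map_radical_le q).trans (Ideal.radical_mono ?_)
        rw [Ideal.map_le_iff_le_comap, SopTight.span_range_update]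
        refine sup_le (Ideal.span_le.2 ?_) ((Ideal.span_singleton_le_iff_mem _).2 ?_)
        · rintro _ ⟨i, hi, rfl⟩
          rw [Set.mem_compl_iff, Set.mem_singleton_iff] at hi
          obtain ⟨i', rfl⟩ := Fin.exists_castSucc_eq.2 hi
          exact Ideal.subset_span ⟨i', rfl⟩
        · rw [Ideal.mem_comap, Ideal.Quotient.eq_zero_iff_mem.2 (Ideal.mem_span_singleton_self y)]
          exact Submodule.zero_mem _
    · rw [show ((a'.submatrix Fin.castSucc Fin.castSucc).map q).det = q C from (RingHom.map_det q _).symm]
      have h := Ideal.mem_map_of_mem q hC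
      rw [Ideal.map_sup, show F' = Ideal.span (f '' {Fin.last n}ᶜ) from rfl, Ideal.map_span, Ideal.map_span, Set.image_singleton,
        Ideal.Quotient.eq_zero_iff_mem.2 (Ideal.mem_span_singleton_self y), Ideal.span_singleton_eq_bot.2 rfl,
        sup_bot_eq] at h
      refine Ideal.span_mono ?_ h
      rintro _ ⟨_, ⟨i, hi, rfl⟩, rfl⟩
      rw [Set.mem_compl_iff, Set.mem_singleton_iff] at hi
      obtain ⟨i', rfl⟩ := Fin.exists_castSucc_eq.2 hi
      exact ⟨i', rfl⟩

end Groth.Agent.InvGor
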