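import Groth.Agent.InvGor.Det
import Groth.Agent.GorLib.RingLevel
import Groth.Agent.SemiGor.General
import Groth.Agent.DimTrdeg.Basic
import Groth.Agent.ComodBasic.AffineHeight
import Groth.Agent.SegreOne.Socle
import Mathlib.RingTheory.Invariant.Basic
import Mathlib.RingTheory.Adjoin.Tower
import Mathlib.RingTheory.Flat.Localization
import Mathlib.RingTheory.RegularLocalRing.Polynomial

/-!
# Invariants of finite subgroups of `SL n` of order prime to the characteristic are Gorenstein

The canonical element of `B ⊗[P] B` for a polynomial ring `B` finite over a ring of parameters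
`P` made of invariants gives an equivariant isomorphism `Hom_P(B, P) ≅ B`.
-/

namespace Groth.Agent.InvGor

open TensorProduct

universe u

theorem height_eq_n {k : Type u} [Field k] {n : ℕ} (m : Ideal (MvPolynomial (Fin n) k)) [m.IsMaximal] :
    m.height = n := by
  obtain ⟨N, hN, hht⟩ := ComodBasic.exists_height_eq_of_isMaximal k (MvPolynomial (Fin n) k)
  rw [hht m ‹_›]
  rw [MvPolynomial.ringKrullDim_of_isNoetherianRing, ringKrullDim_eq_zero_of_field, zero_add] at hN
  simpa using hN.symm

/-- Two regular rings of the same dimension, one finite over the other: flatness. -/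
theorem flat_mvPolynomial {k : Type u} [Field k] {n : ℕ} {P : Type u} [CommRing P] [IsRegularRing P]
    (hP : ∀ (m : Ideal P), m.IsMaximal → m.height = n)
    [Algebra P (MvPolynomial (Fin n) k)] [Module.Finite P (MvPolynomial (Fin n) k)] :
    Module.Flat P (MvPolynomial (Fin n) k) := by
  haveI := DepthLib.CMPoly.isRegularRing_field k
  set S := MvPolynomial (Fin n) k
  refine Module.flat_of_isLocalized_maximal (R := P) (S := S) (M := S) (fun q _ => Localization.AtPrime q)
    (fun q _ => Algebra.linearMap S (Localization.AtPrime q)) fun q hq => ?_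
  set m := q.comap (algebraMap P S)
  have : Algebra.IsIntegral P S := Algebra.IsIntegral.of_finite P S
  have hm : m.IsMaximal := Ideal.isMaximal_comap_of_isIntegral_of_isMaximal q
  let Am := Localization.AtPrime m
  let Sq := Localization.AtPrime q
  let : Algebra Am Sq := (Localization.localRingHom m q (algebraMap P S) rfl).toAlgebra
  have : IsLocalHom (algebraMap Am Sq) :=
    inferInstanceAs (IsLocalHom (Localization.localRingHom m q (algebraMap P S) rfl))
  have : IsScalarTower P Am Sq := IsScalarTower.of_algebraMap_eq fun x => by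
    rw [RingHom.algebraMap_toAlgebra, Localization.localRingHom_to_map, IsScalarTower.algebraMap_apply P S Sq]
  haveI : IsRegularLocalRing Am := IsRegularRing.isRegularLocalRing_localization (R := P) m
  haveI : IsRegularLocalRing Sq := IsRegularRing.isRegularLocalRing_localization (R := S) q
  haveI : LocCoh.IsCohenMacaulayLocalRing Sq := DepthLib.isCohenMacaulayLocalRing_of_isRegularLocalRing Sq
  have hdA : ringKrullDim Am = (n : WithBot ℕ∞) := by
    rw [IsLocalization.AtPrime.ringKrullDim_eq_height m, hP m hm]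
    rfl
  have hdS : ringKrullDim Sq = (n : WithBot ℕ∞) := by
    rw [IsLocalization.AtPrime.ringKrullDim_eq_height q, height_eq_n q]
    rfl
  set J := (IsLocalRing.maximalIdeal Am).map (algebraMap Am Sq)
  have hJ : J ≤ IsLocalRing.maximalIdeal Sq := Ideal.map_le_iff_le_comap.2 fun x hx =>
    map_nonunit (algebraMap Am Sq) x hx
  have hprime : ∀ R : Ideal Sq, R.IsPrime → J ≤ R → R = IsLocalRing.maximalIdeal Sq := by
    intro R hR hle
    have hQ : m ≤ (R.comap (algebraMap S Sq)).comap (algebraMap P S) := fun x hx => by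
      rw [Ideal.mem_comap, Ideal.mem_comap, ← IsScalarTower.algebraMap_apply, IsScalarTower.algebraMap_apply P Am Sq]
      refine hle (Ideal.mem_map_of_mem _ ?_)
      rw [← Localization.AtPrime.map_eq_maximalIdeal]
      exact Ideal.mem_map_of_mem _ hx
    have hQmax : (R.comap (algebraMap S Sq)).IsMaximal :=
      Ideal.isMaximal_of_isIntegral_of_isMaximal_comap _ (by
        rw [← hm.eq_of_le (Ideal.IsPrime.ne_top inferInstance) hQ]; exact hm)
    have hQq : R.comap (algebraMap S Sq) ≤ q :=
      le_trans (Ideal.comap_mono (IsLocalRing.le_maximalIdeal hR.ne_top))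
        (IsLocalization.AtPrime.under_maximalIdeal Sq q).le
    have := hQmax.eq_of_le hq.ne_top hQq
    rw [← IsLocalization.map_comap q.primeCompl Sq R]
    change (R.comap (algebraMap S Sq)).map _ = _
    rw [this, Localization.AtPrime.map_eq_maximalIdeal]
  have : Nontrivial (Sq ⧸ J) := Ideal.Quotient.nontrivial_iff.2
    (ne_top_of_le_ne_top (IsLocalRing.maximalIdeal.isMaximal Sq).ne_top hJ)
  have hd0 : ringKrullDim (Sq ⧸ J) = 0 := by
    have : Subsingleton (PrimeSpectrum (Sq ⧸ J)) := ⟨fun a b => PrimeSpectrum.ext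
      (Ideal.comap_injective_of_surjective _ Ideal.Quotient.mk_surjective
        ((hprime _ inferInstance (fun x hx => by simp [Ideal.mem_comap, Ideal.Quotient.eq_zero_iff_mem.2 hx])).trans
          (hprime _ inferInstance (fun x hx => by simp [Ideal.mem_comap, Ideal.Quotient.eq_zero_iff_mem.2 hx])).symm))⟩
    exact le_antisymm Order.krullDim_nonpos_of_subsingleton ringKrullDim_nonneg_of_nontrivial
  have : Module.Flat Am Sq := Miracle.flat _ rfl (by rw [hd0, add_zero, hdA, hdS])
  exact Module.Flat.trans P Am Sq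

/-- A finite algebra over a field with a nondegenerate functional is Gorenstein. -/
theorem isGorensteinRing_of_functional {K Q : Type u} [Field K] [CommRing Q] [Algebra K Q] [Module.Finite K Q]
    (φ : Q →ₗ[K] K) (h : ∀ q, (∀ x, φ (q * x) = 0) → q = 0) : LocCoh.IsGorensteinRing Q := by
  haveI : IsArtinianRing Q := IsArtinianRing.of_finite K Q
  refine { isGorensteinLocalRing_localization := fun p _ => ?_ }
  set L := Localization.AtPrime p
  have hsurj : Function.Surjective (algebraMap Q L) := IsArtinianRing.localization_surjective p.primeCompl L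
  haveI : Module.Finite K L := Module.Finite.of_surjective (IsScalarTower.toAlgHom K Q L).toLinearMap hsurj
  haveI : IsNoetherianRing L := IsLocalization.isNoetherianRing p.primeCompl L inferInstance
  obtain ⟨e, he, he1⟩ : ∃ e : Q, (∀ r, algebraMap Q L r = 0 → e * r = 0) ∧ algebraMap Q L e = 1 := by
    obtain ⟨s, hs⟩ := (inferInstance : IsNoetherian Q Q).noetherian (RingHom.ker (algebraMap Q L))
    have hu : ∀ r ∈ s, ∃ u : p.primeCompl, (u : Q) * r = 0 := fun r hr =>
      (IsLocalization.map_eq_zero_iff p.primeCompl L r).1 (RingHom.mem_ker.1 (hs ▸ Submodule.subset_span hr))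
    choose! u hu using hu
    classical
    let w : Q := ∏ r ∈ s, (u r : Q)
    have hw : IsUnit (algebraMap Q L w) :=
      IsLocalization.map_units L (⟨w, prod_mem fun r _ => (u r).2⟩ : p.primeCompl)
    obtain ⟨v, hv⟩ := hsurj ((hw.unit⁻¹ : Lˣ) : L)
    refine ⟨w * v, fun r hr => ?_, by rw [map_mul, hv]; exact hw.mul_val_inv⟩
    have hr' : r ∈ Submodule.span Q (s : Set Q) := hs ▸ RingHom.mem_ker.2 hr
    induction hr' using Submodule.span_induction with
    | mem x hx =>
      rw [mul_right_comm]
      have : w * x = 0 := by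
        change (∏ r ∈ s, (u r : Q)) * x = 0
        rw [← Finset.prod_erase_mul _ _ hx, mul_assoc, hu x hx, mul_zero]
      rw [this, zero_mul]
    | zero => exact mul_zero _
    | add x y _ _ hx hy =>
      have hsp : ∀ z ∈ Submodule.span Q (s : Set Q), algebraMap Q L z = 0 := fun z hz =>
        RingHom.mem_ker.1 (hs ▸ hz)
      rw [mul_add, hx (hsp _ ‹_›), hy (hsp _ ‹_›), add_zero]
    | smul c x hxs hx =>
      rw [smul_eq_mul, mul_left_comm, hx (RingHom.mem_ker.1 (hs ▸ hxs)), mul_zero]
  let sec : L → Q := Function.surjInv hsurj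
  have hsec : ∀ z, algebraMap Q L (sec z) = z := Function.surjInv_eq hsurj
  have hwd : ∀ (z : L) (q : Q), algebraMap Q L q = z → e * sec z = e * q := fun z q hq => by
    rw [← sub_eq_zero, ← mul_sub]
    exact he _ (by rw [map_sub, hsec, hq, sub_self])
  let ψ : L →ₗ[K] K :=
    { toFun := fun z => φ (e * sec z)
      map_add' := fun z z' => by
        rw [hwd (z + z') (sec z + sec z') (by rw [map_add, hsec, hsec]), mul_add, map_add]
      map_smul' := fun c z => by
        rw [hwd (c • z) (c • sec z) (by rw [Algebra.smul_def, map_mul, ← IsScalarTower.algebraMap_apply, hsec,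
          ← Algebra.smul_def]), mul_smul_comm, map_smul, RingHom.id_apply] }
  refine SemiGor.isGorensteinLocalRing_of_pairing ψ fun z hz => ?_
  have : e * sec z = 0 := h _ fun x => by
    have := hz (algebraMap Q L x)
    change φ (e * sec (z * algebraMap Q L x)) = 0 at this
    rw [hwd _ (sec z * x) (by rw [map_mul, hsec]), ← mul_assoc] at this
    exact this
  have := congrArg (algebraMap Q L) this
  rwa [map_mul, he1, one_mul, hsec, map_zero] at this

section

variable {k : Type u} [Field k] {n : ℕ}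

/-- The diagonal ideal is generated by the differences of the variables. -/
theorem diag_mem (b : (MvPolynomial (Fin n) k)) : b ⊗ₜ[k] (1 : (MvPolynomial (Fin n) k)) - (1 : (MvPolynomial (Fin n) k)) ⊗ₜ[k] b ∈
    Ideal.span (Set.range fun j : Fin n => (MvPolynomial.X j : (MvPolynomial (Fin n) k)) ⊗ₜ[k] (1 : (MvPolynomial (Fin n) k)) - (1 : (MvPolynomial (Fin n) k)) ⊗ₜ[k] MvPolynomial.X j) := by
  induction b using MvPolynomial.induction_on with
  | C c =>
    have : (MvPolynomial.C c : (MvPolynomial (Fin n) k)) = c • 1 := by rw [MvPolynomial.smul_eq_C_mul, mul_one]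
    rw [this, TensorProduct.smul_tmul, sub_self]
    exact Submodule.zero_mem _
  | add p q hp hq =>
    rw [TensorProduct.add_tmul, TensorProduct.tmul_add, add_sub_add_comm]
    exact Ideal.add_mem _ hp hq
  | mul_X p j hp =>
    have : (p * MvPolynomial.X j) ⊗ₜ[k] (1 : (MvPolynomial (Fin n) k)) - (1 : (MvPolynomial (Fin n) k)) ⊗ₜ[k] (p * MvPolynomial.X j) =
        p ⊗ₜ[k] (1 : (MvPolynomial (Fin n) k)) * ((MvPolynomial.X j : (MvPolynomial (Fin n) k)) ⊗ₜ[k] (1 : (MvPolynomial (Fin n) k)) - (1 : (MvPolynomial (Fin n) k)) ⊗ₜ[k] MvPolynomial.X j) +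
        (1 : (MvPolynomial (Fin n) k)) ⊗ₜ[k] MvPolynomial.X j * (p ⊗ₜ[k] (1 : (MvPolynomial (Fin n) k)) - (1 : (MvPolynomial (Fin n) k)) ⊗ₜ[k] p) := by
      simp only [mul_sub, Algebra.TensorProduct.tmul_mul_tmul, one_mul, mul_one, mul_comm (MvPolynomial.X j) p]
      abel
    rw [this]
    exact Ideal.add_mem _ (Ideal.mul_mem_left _ _ (Ideal.subset_span ⟨j, rfl⟩)) (Ideal.mul_mem_left _ _ hp)

variable {P : Type u} [CommRing P] [Algebra k P] [Algebra P (MvPolynomial (Fin n) k)] [IsScalarTower k P (MvPolynomial (Fin n) k)]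

variable (P) in
/-- The comparison `B ⊗[k] B → B ⊗[P] B`. -/
noncomputable def toRel : (MvPolynomial (Fin n) k) ⊗[k] (MvPolynomial (Fin n) k) →ₐ[k] (MvPolynomial (Fin n) k) ⊗[P] (MvPolynomial (Fin n) k) :=
  Algebra.TensorProduct.lift ((Algebra.TensorProduct.includeLeft : (MvPolynomial (Fin n) k) →ₐ[P] (MvPolynomial (Fin n) k) ⊗[P] (MvPolynomial (Fin n) k)).restrictScalars k)
    ((Algebra.TensorProduct.includeRight : (MvPolynomial (Fin n) k) →ₐ[P] (MvPolynomial (Fin n) k) ⊗[P] (MvPolynomial (Fin n) k)).restrictScalars k) (fun _ _ => .all _ _)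

/-- Contracting the right factor. -/
noncomputable def contract (φ : (MvPolynomial (Fin n) k) →ₗ[P] P) : (MvPolynomial (Fin n) k) ⊗[P] (MvPolynomial (Fin n) k) →ₗ[P] (MvPolynomial (Fin n) k) :=
  (TensorProduct.rid P (MvPolynomial (Fin n) k)).toLinearMap ∘ₗ φ.lTensor (MvPolynomial (Fin n) k)

@[simp] theorem contract_tmul (φ : (MvPolynomial (Fin n) k) →ₗ[P] P) (u v : (MvPolynomial (Fin n) k)) : contract φ (u ⊗ₜ v) = φ v • u := by
  simp [contract]

set_option synthInstance.maxHeartbeats 200000 in
set_option maxHeartbeats 1000000 in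
/-- The self-duality of `B` over the parameters, from an element of the annihilator of the diagonal which is
nowhere zero on the closed fibres. -/
theorem exists_dual_generator [Module.Finite P (MvPolynomial (Fin n) k)] [Module.Projective P (MvPolynomial (Fin n) k)] (Δ : (MvPolynomial (Fin n) k) ⊗[P] (MvPolynomial (Fin n) k))
    (hann : ∀ b : (MvPolynomial (Fin n) k), b ⊗ₜ[P] (1 : (MvPolynomial (Fin n) k)) * Δ = (1 : (MvPolynomial (Fin n) k)) ⊗ₜ[P] b * Δ)
    (hne : ∀ m : Ideal (MvPolynomial (Fin n) k), m.IsMaximal → (Ideal.Quotient.mkₐ P m).toLinearMap.rTensor (MvPolynomial (Fin n) k) Δ ≠ 0) :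
    ∃ ψ : (MvPolynomial (Fin n) k) →ₗ[P] P, contract ψ Δ = 1 ∧ ∀ φ : (MvPolynomial (Fin n) k) →ₗ[P] P, ∀ v, φ v = ψ (contract φ Δ * v) := by
  have hmul : ∀ (φ : (MvPolynomial (Fin n) k) →ₗ[P] P) (b : (MvPolynomial (Fin n) k)), contract (φ ∘ₗ LinearMap.mulLeft P b) Δ = b * contract φ Δ := by
    intro φ b
    have h1 : contract (φ ∘ₗ LinearMap.mulLeft P b) Δ = contract φ ((1 : (MvPolynomial (Fin n) k)) ⊗ₜ[P] b * Δ) := by
      clear hann hne
      induction Δ using TensorProduct.induction_on with
      | zero => simp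
      | add p q hp hq => simp only [map_add, mul_add, hp, hq]
      | tmul p q => simp
    rw [h1, ← hann]
    clear h1 hann hne
    induction Δ using TensorProduct.induction_on with
    | zero => simp
    | add p q hp hq => simp only [map_add, mul_add, hp, hq]
    | tmul p q => simp
  let I : Ideal (MvPolynomial (Fin n) k) :=
    { carrier := Set.range fun φ : (MvPolynomial (Fin n) k) →ₗ[P] P => contract φ Δ
      add_mem' := by
        rintro _ _ ⟨φ, rfl⟩ ⟨φ', rfl⟩
        exact ⟨φ + φ', by simp [contract, LinearMap.lTensor_add]⟩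
      zero_mem' := ⟨0, by simp [contract]⟩
      smul_mem' := by
        rintro b _ ⟨φ, rfl⟩
        exact ⟨φ ∘ₗ LinearMap.mulLeft P b, hmul φ b⟩ }
  have hI : (1 : (MvPolynomial (Fin n) k)) ∈ I := by
    by_contra h1
    obtain ⟨m, hm, hle⟩ := Ideal.exists_le_maximal I fun h => h1 (h ▸ Submodule.mem_top)
    obtain ⟨N, f, g, hf, hg, hfg⟩ := Module.Finite.exists_comp_eq_id_of_projective P (MvPolynomial (Fin n) k)
    set z := (Ideal.Quotient.mkₐ P m).toLinearMap.rTensor (MvPolynomial (Fin n) k) Δ
    have hz : ∀ φ : (MvPolynomial (Fin n) k) →ₗ[P] P, TensorProduct.rid P ((MvPolynomial (Fin n) k) ⧸ m) (φ.lTensor ((MvPolynomial (Fin n) k) ⧸ m) z) = 0 := by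
      intro φ
      have hmem : contract φ Δ ∈ m := hle ⟨φ, rfl⟩
      refine Eq.trans ?_ (Ideal.Quotient.eq_zero_iff_mem.2 hmem)
      simp only [z]
      suffices h : ∀ T : (MvPolynomial (Fin n) k) ⊗[P] (MvPolynomial (Fin n) k),
          TensorProduct.rid P ((MvPolynomial (Fin n) k) ⧸ m) (φ.lTensor _
            ((Ideal.Quotient.mkₐ P m).toLinearMap.rTensor (MvPolynomial (Fin n) k) T)) =
            Ideal.Quotient.mk m (contract φ T) from h Δ
      intro T
      induction T using TensorProduct.induction_on with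
      | zero => simp
      | add p q hp hq => simp only [map_add, hp, hq]
      | tmul p q =>
        simp only [LinearMap.rTensor_tmul, LinearMap.lTensor_tmul, TensorProduct.rid_tmul, contract_tmul,
          AlgHom.toLinearMap_apply, Ideal.Quotient.mkₐ_eq_mk]
        exact (map_smul (Ideal.Quotient.mkₐ P m) (φ q) p).symm
    have hrec : ∀ w : ((MvPolynomial (Fin n) k) ⧸ m) ⊗[P] (MvPolynomial (Fin n) k), w = ∑ i : Fin N,
        (TensorProduct.rid P ((MvPolynomial (Fin n) k) ⧸ m) ((LinearMap.proj i ∘ₗ g).lTensor ((MvPolynomial (Fin n) k) ⧸ m) w)) ⊗ₜ[P] f (Pi.single i 1) := by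
      intro w
      induction w using TensorProduct.induction_on with
      | zero => simp
      | add p q hp hq => conv_lhs => rw [hp, hq, ← Finset.sum_add_distrib]
                         simp [add_tmul]
      | tmul p q =>
        simp only [LinearMap.lTensor_tmul, TensorProduct.rid_tmul, LinearMap.comp_apply, LinearMap.proj_apply]
        simp only [TensorProduct.smul_tmul, ← TensorProduct.tmul_sum, ← map_smul, ← map_sum]
        congr 1
        conv_lhs => rw [← LinearMap.id_apply (R := P) q, ← hfg]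
        rw [LinearMap.comp_apply]
        congr 1
        exact (pi_eq_sum_univ' (g q)).trans rfl
    exact hne m hm ((hrec z).trans (Finset.sum_eq_zero fun i _ => by rw [hz, zero_tmul]))
  obtain ⟨ψ, hψ⟩ := hI
  have hψ' : contract ψ Δ = 1 := hψ
  refine ⟨ψ, hψ', ?_⟩
  let b₀ : (MvPolynomial (Fin n) k) := TensorProduct.lid P (MvPolynomial (Fin n) k) (ψ.rTensor (MvPolynomial (Fin n) k) Δ)
  have key : ∀ (φ : (MvPolynomial (Fin n) k) →ₗ[P] P) (v : (MvPolynomial (Fin n) k)), ψ (contract φ Δ * v) = φ (v * b₀) := by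
    intro φ v
    have h1 : ψ (contract φ Δ * v) = LinearMap.mul' P P (TensorProduct.map ψ φ (v ⊗ₜ[P] (1 : (MvPolynomial (Fin n) k)) * Δ)) := by
      suffices h : ∀ T, ψ (contract φ T * v) =
          LinearMap.mul' P P (TensorProduct.map ψ φ (v ⊗ₜ[P] (1 : (MvPolynomial (Fin n) k)) * T)) from h Δ
      intro T
      induction T using TensorProduct.induction_on with
      | zero => simp
      | add p q hp hq => simp only [map_add, mul_add, add_mul, hp, hq]
      | tmul p q =>
        simp only [contract_tmul, smul_mul_assoc, map_smul, smul_eq_mul, Algebra.TensorProduct.tmul_mul_tmul, one_mul,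
          TensorProduct.map_tmul, LinearMap.mul'_apply]
        rw [mul_comm v p]
        ring
    rw [h1, hann]
    suffices h : ∀ T, LinearMap.mul' P P (TensorProduct.map ψ φ ((1 : (MvPolynomial (Fin n) k)) ⊗ₜ[P] v * T)) =
        φ (v * TensorProduct.lid P (MvPolynomial (Fin n) k) (ψ.rTensor (MvPolynomial (Fin n) k) T)) from h Δ
    intro T
    induction T using TensorProduct.induction_on with
    | zero => simp
    | add p q hp hq => simp only [map_add, mul_add, hp, hq]
    | tmul p q => simp [mul_comm]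
  have hb₀ : b₀ = 1 := by
    have h0 : ψ ∘ₗ LinearMap.mulLeft P (1 - b₀) = 0 := by
      ext v
      simp only [LinearMap.comp_apply, LinearMap.mulLeft_apply, LinearMap.zero_apply, sub_mul, one_mul, map_sub,
        sub_eq_zero]
      rw [mul_comm b₀ v, ← key ψ v, hψ', one_mul]
    have := hmul ψ (1 - b₀)
    rw [h0, hψ', mul_one] at this
    exact (sub_eq_zero.1 (this.symm.trans (by simp [contract]))).symm
  intro φ v
  rw [key, hb₀, mul_one]

/-- The determinant is nonzero on every closed fibre. -/
theorem rTensor_det_ne_zero (t : Fin n → P) (hgen : Algebra.adjoin k (Set.range t) = ⊤) [Module.Finite P (MvPolynomial (Fin n) k)]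
    {K : Type u} [Field K] [Algebra k K] [Algebra P K] [IsScalarTower k P K] (θ : (MvPolynomial (Fin n) k) →ₐ[P] K) (hθ : Function.Surjective θ) (a : Fin n → Fin n → (MvPolynomial (Fin n) k) ⊗[k] (MvPolynomial (Fin n) k))
    (_ha : ∀ i, ∑ j, a i j • ((MvPolynomial.X j : (MvPolynomial (Fin n) k)) ⊗ₜ[k] (1 : (MvPolynomial (Fin n) k)) - (1 : (MvPolynomial (Fin n) k)) ⊗ₜ[k] MvPolynomial.X j) =
      algebraMap P (MvPolynomial (Fin n) k) (t i) ⊗ₜ[k] (1 : (MvPolynomial (Fin n) k)) - (1 : (MvPolynomial (Fin n) k)) ⊗ₜ[k] algebraMap P (MvPolynomial (Fin n) k) (t i))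
    (M : Matrix (Fin n) (Fin n) ((MvPolynomial (Fin n) k) ⊗[k] (MvPolynomial (Fin n) k)))
    (hM : M.mulVec (fun j => (MvPolynomial.X j : (MvPolynomial (Fin n) k)) ⊗ₜ[k] (1 : (MvPolynomial (Fin n) k)) - (1 : (MvPolynomial (Fin n) k)) ⊗ₜ[k] MvPolynomial.X j) =
      fun i => algebraMap P (MvPolynomial (Fin n) k) (t i) ⊗ₜ[k] (1 : (MvPolynomial (Fin n) k)) - (1 : (MvPolynomial (Fin n) k)) ⊗ₜ[k] algebraMap P (MvPolynomial (Fin n) k) (t i)) :
    θ.toLinearMap.rTensor (MvPolynomial (Fin n) k) (toRel P M.det) ≠ 0 := by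
  classical
  intro h0
  let R := MvPolynomial (Fin n) K
  let c : (MvPolynomial (Fin n) k) →ₐ[k] R := (IsScalarTower.toAlgHom k K R).comp (θ.restrictScalars k)
  let up : (MvPolynomial (Fin n) k) →ₐ[k] R := MvPolynomial.mapAlgHom (Algebra.ofId k K)
  let ev : (MvPolynomial (Fin n) k) ⊗[k] (MvPolynomial (Fin n) k) →ₐ[k] R := Algebra.TensorProduct.lift c up (fun _ _ => .all _ _)
  let x : Fin n → R := fun j => MvPolynomial.C (θ (MvPolynomial.X j)) - MvPolynomial.X j
  let F : Fin n → R := fun i => c (algebraMap P (MvPolynomial (Fin n) k) (t i)) - up (algebraMap P (MvPolynomial (Fin n) k) (t i))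
  let I : Ideal R := Ideal.span (Set.range F)
  have hevd : ∀ j, ev ((MvPolynomial.X j : (MvPolynomial (Fin n) k)) ⊗ₜ[k] (1 : (MvPolynomial (Fin n) k)) - (1 : (MvPolynomial (Fin n) k)) ⊗ₜ[k] MvPolynomial.X j) = x j := fun j => by
    simp [ev, x, c, up, R, MvPolynomial.algebraMap_eq]
  have hevf : ∀ i, ev (algebraMap P (MvPolynomial (Fin n) k) (t i) ⊗ₜ[k] (1 : (MvPolynomial (Fin n) k)) - (1 : (MvPolynomial (Fin n) k)) ⊗ₜ[k] algebraMap P (MvPolynomial (Fin n) k) (t i)) = F i := fun i => by
    simp [ev, F]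
  have hFx : F = (M.map ev).mulVec x := by
    funext i
    rw [← hevf i, ← congrFun hM i]
    simp only [Matrix.mulVec, dotProduct, map_sum, map_mul, hevd, Matrix.map_apply]
  -- the map from the fibre
  let qm : R →ₐ[k] R ⧸ I := Ideal.Quotient.mkₐ k I
  have hcompat : ∀ p : P, qm (up (algebraMap P (MvPolynomial (Fin n) k) p)) = qm (c (algebraMap P (MvPolynomial (Fin n) k) p)) := by
    intro p
    have hp : p ∈ Algebra.adjoin k (Set.range t) := hgen ▸ Algebra.mem_top
    have : p ∈ AlgHom.equalizer ((qm.comp up).comp (IsScalarTower.toAlgHom k P (MvPolynomial (Fin n) k)))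
        ((qm.comp c).comp (IsScalarTower.toAlgHom k P (MvPolynomial (Fin n) k))) := by
      refine Algebra.adjoin_le ?_ hp
      rintro _ ⟨i, rfl⟩
      change qm (up (algebraMap P (MvPolynomial (Fin n) k) (t i))) = qm (c (algebraMap P (MvPolynomial (Fin n) k) (t i)))
      rw [← sub_eq_zero, ← map_sub]
      refine Ideal.Quotient.eq_zero_iff_mem.2 ?_
      have : up (algebraMap P (MvPolynomial (Fin n) k) (t i)) - c (algebraMap P (MvPolynomial (Fin n) k) (t i)) = -F i := (neg_sub _ _).symm
      rw [this]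
      exact I.neg_mem (Ideal.subset_span ⟨i, rfl⟩)
    exact this
  have hcompat' : ∀ p : P, qm (up (algebraMap P (MvPolynomial (Fin n) k) p)) = algebraMap P (R ⧸ I) p := fun p => by
    rw [hcompat]
    simp only [qm, c, AlgHom.comp_apply, AlgHom.coe_restrictScalars', θ.commutes]
    rfl
  let Ψ : K ⊗[P] (MvPolynomial (Fin n) k) →ₐ[P] R ⧸ I := Algebra.TensorProduct.lift (IsScalarTower.toAlgHom P K (R ⧸ I))
    { (qm.comp up).toRingHom with commutes' := hcompat' } (fun _ _ => .all _ _)
  have hkey : ∀ w : (MvPolynomial (Fin n) k) ⊗[k] (MvPolynomial (Fin n) k), Ψ (θ.toLinearMap.rTensor (MvPolynomial (Fin n) k) (toRel P w)) = qm (ev w) := by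
    intro w
    induction w using TensorProduct.induction_on with
    | zero => simp
    | add p q hp hq => simp only [map_add, hp, hq]
    | tmul p q =>
      simp only [toRel, Algebra.TensorProduct.lift_tmul, AlgHom.coe_restrictScalars',
        Algebra.TensorProduct.includeLeft_apply, Algebra.TensorProduct.includeRight_apply,
        Algebra.TensorProduct.tmul_mul_tmul, mul_one, one_mul, LinearMap.rTensor_tmul, AlgHom.toLinearMap_apply, ev,
        map_mul, Ψ]
      rfl
  have hdet : (M.map ev).det ∈ I := by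
    rw [← Ideal.Quotient.eq_zero_iff_mem]
    have := hkey M.det
    rw [h0, map_zero, AlgHom.map_det] at this
    exact this.symm
  -- the quotient is finite over the residue field
  haveI : Module.Finite K (R ⧸ I) := by
    haveI : Module.Finite K (K ⊗[P] (MvPolynomial (Fin n) k)) := Module.Finite.base_change P K (MvPolynomial (Fin n) k)
    let Ψ' : K ⊗[P] (MvPolynomial (Fin n) k) →ₗ[K] R ⧸ I :=
      { Ψ.toLinearMap with
        map_smul' := fun e w => by
          simp only [RingHom.id_apply, AddHom.toFun_eq_coe, LinearMap.coe_toAddHom, AlgHom.toLinearMap_apply]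
          induction w using TensorProduct.induction_on with
          | zero => simp
          | add a b ha hb => simp only [smul_add, map_add, ha, hb]
          | tmul a b =>
            simp [Ψ, TensorProduct.smul_tmul', mul_assoc]
            exact (Algebra.smul_def e _).symm }
    refine Module.Finite.of_surjective Ψ' fun z => ?_
    obtain ⟨z, rfl⟩ := Ideal.Quotient.mk_surjective z
    induction z using MvPolynomial.induction_on with
    | C e => exact ⟨e ⊗ₜ[P] 1, by simp [Ψ', Ψ, qm, up]; rfl⟩
    | add p q hp hq =>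
      obtain ⟨p', hp'⟩ := hp
      obtain ⟨q', hq'⟩ := hq
      exact ⟨p' + q', by rw [map_add, map_add, hp', hq']⟩
    | mul_X p j hp =>
      obtain ⟨p', hp'⟩ := hp
      refine ⟨p' * (1 : K) ⊗ₜ[P] (MvPolynomial.X j : (MvPolynomial (Fin n) k)), ?_⟩
      change Ψ _ = _
      rw [map_mul, show Ψ p' = Ideal.Quotient.mk I p from hp', map_mul]
      congr 1
      simp [Ψ, qm, up]
      exact congrArg _ (MvPolynomial.map_X _ j)
  haveI : IsArtinianRing (R ⧸ I) := IsArtinianRing.of_finite K _
  -- localise at the rational point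
  let pt : R →ₐ[K] K := MvPolynomial.aeval fun j => θ (MvPolynomial.X j)
  let 𝔪 := RingHom.ker pt
  have hptC : ∀ e, pt (MvPolynomial.C e) = e := fun e => MvPolynomial.aeval_C _ e
  have hptX : ∀ j, pt (MvPolynomial.X j) = θ (MvPolynomial.X j) := fun j => MvPolynomial.aeval_X _ j
  haveI h𝔪 : 𝔪.IsMaximal := RingHom.ker_isMaximal_of_surjective _ fun e => ⟨MvPolynomial.C e, hptC e⟩
  have hspan : Ideal.span (Set.range x) = 𝔪 := by
    refine le_antisymm (Ideal.span_le.2 ?_) fun p hp => ?_
    · rintro _ ⟨j, rfl⟩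
      refine RingHom.mem_ker.2 ?_
      simp only [x, map_sub, hptC, hptX, sub_self]
    · have : p - MvPolynomial.C (pt p) ∈ Ideal.span (Set.range x) := by
        clear hp
        induction p using MvPolynomial.induction_on with
        | C e => rw [hptC, sub_self]; exact Submodule.zero_mem _
        | add p q hp hq =>
          have := Ideal.add_mem _ hp hq
          convert this using 1
          rw [map_add, map_add]; ring
        | mul_X p j hp =>
          have h : p * MvPolynomial.X j - MvPolynomial.C (pt (p * MvPolynomial.X j)) =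
              MvPolynomial.X j * (p - MvPolynomial.C (pt p)) - MvPolynomial.C (pt p) * x j := by
            simp only [x, map_mul, hptX]
            ring
          rw [h]
          exact Ideal.sub_mem _ (Ideal.mul_mem_left _ _ hp) (Ideal.mul_mem_left _ _ (Ideal.subset_span ⟨j, rfl⟩))
      rwa [RingHom.mem_ker.1 hp, map_zero, sub_zero] at this
  let S := Localization.AtPrime 𝔪
  haveI := DepthLib.CMPoly.isRegularRing_field K
  haveI : IsRegularLocalRing S := IsRegularRing.isRegularLocalRing_localization (R := R) 𝔪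
  haveI : LocCoh.IsCohenMacaulayLocalRing S := DepthLib.isCohenMacaulayLocalRing_of_isRegularLocalRing S
  have hdim : ringKrullDim S = n := by
    rw [IsLocalization.AtPrime.ringKrullDim_eq_height 𝔪, height_eq_n 𝔪]
    rfl
  let ℓ := algebraMap R S
  have hI𝔪 : I ≤ 𝔪 := by
    rw [← hspan, Ideal.span_le]
    rintro _ ⟨i, rfl⟩
    rw [hFx]
    simp only [Matrix.mulVec, dotProduct, SetLike.mem_coe]
    exact Ideal.sum_mem _ fun j _ => Ideal.mul_mem_left _ _ (Ideal.subset_span (s := Set.range x) ⟨j, rfl⟩)
  refine det_notMem n hdim (fun j => ℓ (x j)) (fun i => ℓ (F i)) ((M.map ev).map ℓ) ?_ ?_ ?_ ?_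
  · rw [← Localization.AtPrime.map_eq_maximalIdeal]
    refine Eq.trans ?_ (congrArg (Ideal.map ℓ) hspan)
    rw [Ideal.map_span, ← Set.range_comp]
    rfl
  · funext i
    rw [hFx]
    simp [Matrix.mulVec, dotProduct, map_sum]
  · refine le_antisymm ?_ ?_
    · rw [(IsLocalRing.maximalIdeal.isMaximal S).isPrime.radical_le_iff, Ideal.span_le,
        ← Localization.AtPrime.map_eq_maximalIdeal]
      rintro _ ⟨i, rfl⟩
      exact Ideal.mem_map_of_mem _ (hI𝔪 (Ideal.subset_span ⟨i, rfl⟩))
    · rw [Ideal.radical_eq_sInf]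
      refine le_sInf ?_
      rintro Q ⟨hQ, hQp⟩
      haveI := hQp
      have hIQ : I ≤ Q.comap ℓ := Ideal.span_le.2 (by rintro _ ⟨i, rfl⟩; exact hQ (Ideal.subset_span ⟨i, rfl⟩))
      haveI : ((Q.comap ℓ).map (Ideal.Quotient.mk I)).IsPrime :=
        Ideal.map_isPrime_of_surjective Ideal.Quotient.mk_surjective (by rwa [Ideal.mk_ker])
      have hmax : ((Q.comap ℓ).map (Ideal.Quotient.mk I)).IsMaximal := IsArtinianRing.isMaximal_of_isPrime _
      haveI := hmax
      have hmax' : (((Q.comap ℓ).map (Ideal.Quotient.mk I)).comap (Ideal.Quotient.mk I)).IsMaximal :=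
        Ideal.comap_isMaximal_of_surjective _ Ideal.Quotient.mk_surjective
      rw [Ideal.comap_map_of_surjective _ Ideal.Quotient.mk_surjective, ← RingHom.ker_eq_comap_bot, Ideal.mk_ker,
        sup_eq_left.2 hIQ] at hmax'
      have hle : Q.comap ℓ ≤ 𝔪 := (Ideal.comap_mono (IsLocalRing.le_maximalIdeal hQp.ne_top)).trans
        (IsLocalization.AtPrime.under_maximalIdeal S 𝔪).le
      have := hmax'.eq_of_le h𝔪.ne_top hle
      rw [← Localization.AtPrime.map_eq_maximalIdeal]
      exact (le_of_eq (congrArg (Ideal.map ℓ) this.symm)).trans Ideal.map_comap_le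
  · have hm' := Ideal.mem_map_of_mem ℓ hdet
    rw [RingHom.map_det, Ideal.map_span, ← Set.range_comp] at hm'
    exact hm'

end

section Main

variable {k : Type u} [Field k] {n : ℕ} {G : Type u} [Group G] [Finite G]

/-- The case of a given ring of parameters. -/
theorem isGorensteinRing_aux [MulSemiringAction G (MvPolynomial (Fin n) k)] [SMulCommClass G k (MvPolynomial (Fin n) k)]
    (hG : IsUnit ((Nat.card G : ℕ) : k)) (ρ : G →* Matrix.GeneralLinearGroup (Fin n) k)
    (hdet : ∀ g : G, Matrix.det ((ρ g : Matrix (Fin n) (Fin n) k)) = 1)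
    (hX : ∀ (g : G) (i : Fin n), g • (MvPolynomial.X i : (MvPolynomial (Fin n) k)) =
      ∑ j : Fin n, (ρ g : Matrix (Fin n) (Fin n) k) j i • (MvPolynomial.X j : (MvPolynomial (Fin n) k)))
    {P : Type u} [CommRing P] [IsRegularRing P] (hP : ∀ (m : Ideal P), m.IsMaximal → m.height = n)
    [Algebra k P] (t : Fin n → P) (hgen : Algebra.adjoin k (Set.range t) = ⊤)
    [Algebra P (FixedPoints.subalgebra k (MvPolynomial (Fin n) k) G)] [Module.Finite P (FixedPoints.subalgebra k (MvPolynomial (Fin n) k) G)]
    [Algebra P (MvPolynomial (Fin n) k)] [IsScalarTower k P (MvPolynomial (Fin n) k)] [IsScalarTower P (FixedPoints.subalgebra k (MvPolynomial (Fin n) k) G) (MvPolynomial (Fin n) k)]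
    [Module.Finite P (MvPolynomial (Fin n) k)] :
    LocCoh.IsGorensteinRing (FixedPoints.subalgebra k (MvPolynomial (Fin n) k) G) := by
  classical
  letI := Fintype.ofFinite G
  let Inv := FixedPoints.subalgebra k (MvPolynomial (Fin n) k) G
  haveI := DepthLib.CMPoly.isRegularRing_field k
  haveI : Module.Flat P (MvPolynomial (Fin n) k) := flat_mvPolynomial hP
  haveI : IsNoetherianRing P := inferInstance
  haveI : Module.FinitePresentation P (MvPolynomial (Fin n) k) := Module.finitePresentation_of_finite P (MvPolynomial (Fin n) k)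
  haveI : Module.Projective P (MvPolynomial (Fin n) k) := Module.Flat.projective_of_finitePresentation
  -- averaging
  have hN : ((Nat.card G : ℕ) : k) ≠ 0 := hG.ne_zero
  have hcard : (Nat.card G : ℕ) = Fintype.card G := Nat.card_eq_fintype_card
  set c : k := ((Nat.card G : ℕ) : k)⁻¹ with hc
  have hfixP : ∀ (g : G) (p : P), g • algebraMap P (MvPolynomial (Fin n) k) p = algebraMap P (MvPolynomial (Fin n) k) p := fun g p => by
    rw [IsScalarTower.algebraMap_apply P Inv (MvPolynomial (Fin n) k)]
    exact (algebraMap P Inv p).2 g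
  haveI : SMulCommClass G P (MvPolynomial (Fin n) k) := ⟨fun g p b => by
    rw [Algebra.smul_def, Algebra.smul_def, smul_mul', hfixP]⟩
  let act : G → ((MvPolynomial (Fin n) k) →ₐ[k] (MvPolynomial (Fin n) k)) := fun g => MulSemiringAction.toAlgHom k (MvPolynomial (Fin n) k) g
  let actP : G → ((MvPolynomial (Fin n) k) →ₐ[P] (MvPolynomial (Fin n) k)) := fun g => MulSemiringAction.toAlgHom P (MvPolynomial (Fin n) k) g
  let E : (MvPolynomial (Fin n) k) →ₗ[P] (MvPolynomial (Fin n) k) := c • ∑ g : G, (actP g).toLinearMap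
  have hEapp : ∀ b, E b = c • ∑ g : G, g • b := fun b => by simp [E, actP]
  have hEfix : ∀ b (h : G), h • E b = E b := fun b h => by
    rw [hEapp, smul_comm, Finset.smul_sum]
    congr 1
    exact Fintype.sum_equiv (Equiv.mulLeft h) _ _ fun g => (mul_smul h g b).symm
  have hEid : ∀ b : (MvPolynomial (Fin n) k), (∀ g : G, g • b = b) → E b = b := fun b hb => by
    rw [hEapp]
    simp only [hb, Finset.sum_const, Finset.card_univ, ← hcard, ← Nat.cast_smul_eq_nsmul k, smul_smul, hc,
      inv_mul_cancel₀ hN, one_smul]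
  let Eₐ : (MvPolynomial (Fin n) k) →ₗ[P] Inv :=
    { toFun := fun b => ⟨E b, hEfix b⟩
      map_add' := fun x y => Subtype.ext (map_add E x y)
      map_smul' := fun p x => Subtype.ext (by
        change E (p • x) = ((p • (⟨E x, hEfix x⟩ : Inv) : Inv) : MvPolynomial (Fin n) k)
        rw [map_smul, Algebra.smul_def p (E x), Algebra.smul_def p (⟨E x, hEfix x⟩ : Inv),
          IsScalarTower.algebraMap_apply P Inv (MvPolynomial (Fin n) k)]
        rfl) }
  let ι : Inv →ₗ[P] (MvPolynomial (Fin n) k) := (IsScalarTower.toAlgHom P Inv (MvPolynomial (Fin n) k)).toLinearMap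
  have hEι : Eₐ ∘ₗ ι = LinearMap.id := LinearMap.ext fun a => Subtype.ext (hEid a.1 a.2)
  haveI : Module.Projective P Inv := Module.Projective.of_split ι Eₐ hEι
  -- the element of `B ⊗ B`
  let D := (MvPolynomial (Fin n) k) ⊗[k] (MvPolynomial (Fin n) k)
  let d : Fin n → D := fun j => (MvPolynomial.X j : (MvPolynomial (Fin n) k)) ⊗ₜ[k] (1 : (MvPolynomial (Fin n) k)) - (1 : (MvPolynomial (Fin n) k)) ⊗ₜ[k] MvPolynomial.X j
  let f : Fin n → D := fun i => algebraMap P (MvPolynomial (Fin n) k) (t i) ⊗ₜ[k] (1 : (MvPolynomial (Fin n) k)) - (1 : (MvPolynomial (Fin n) k)) ⊗ₜ[k] algebraMap P (MvPolynomial (Fin n) k) (t i)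
  have hfd : ∀ i, ∃ a : Fin n → D, ∑ j, a j • d j = f i := fun i =>
    (Submodule.mem_span_range_iff_exists_fun D).1 (diag_mem (algebraMap P (MvPolynomial (Fin n) k) (t i)))
  choose a ha using hfd
  let σ : G → (D →ₐ[k] D) := fun g => Algebra.TensorProduct.map (act g) (act g)
  let r : G → Matrix (Fin n) (Fin n) D := fun g =>
    ((ρ g : Matrix (Fin n) (Fin n) k).transpose).map (algebraMap k D)
  have hσt : ∀ g (u v : (MvPolynomial (Fin n) k)), σ g (u ⊗ₜ[k] v) = (g • u) ⊗ₜ[k] (g • v) := fun _ _ _ => rfl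
  have hσd : ∀ g, (fun j => σ g (d j)) = (r g).mulVec d := by
    intro g
    funext j
    simp only [d, map_sub, hσt, smul_one, hX,
      TensorProduct.sum_tmul, TensorProduct.tmul_sum, TensorProduct.tmul_smul, ← TensorProduct.smul_tmul']
    simp only [Matrix.mulVec, dotProduct, r, Matrix.map_apply, Matrix.transpose_apply, mul_sub, ← Algebra.smul_def,
      ← Finset.sum_sub_distrib]
    exact (Finset.sum_sub_distrib _ _).symm
  have hσf : ∀ g i, σ g (f i) = f i := fun g i => by
    simp only [f, map_sub, hσt, smul_one, hfixP]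
  let M : Matrix (Fin n) (Fin n) D := c • ∑ g : G, (Matrix.of a).map (σ g) * r g
  have hMd : M.mulVec d = f := by
    have h1 : ∀ g, ((Matrix.of a).map (σ g) * r g).mulVec d = f := by
      intro g
      rw [← Matrix.mulVec_mulVec, ← hσd g]
      funext i
      rw [← hσf g i, ← ha i, map_sum]
      simp [Matrix.mulVec, dotProduct]
    rw [Matrix.smul_mulVec, Matrix.sum_mulVec, Finset.sum_congr rfl (fun g _ => h1 g), Finset.sum_const,
      Finset.card_univ, ← hcard, ← Nat.cast_smul_eq_nsmul k, smul_smul, hc, inv_mul_cancel₀ hN, one_smul]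
  have hMinv : ∀ h : G, M.map (σ h) * r h = M := by
    intro h
    simp only [M]
    rw [Matrix.map_smul _ _ (fun x => map_smul (σ h) c x), Matrix.smul_mul]
    congr 1
    rw [show (∑ g : G, (Matrix.of a).map (σ g) * r g).map (σ h) =
      (σ h).toRingHom.mapMatrix (∑ g : G, (Matrix.of a).map (σ g) * r g) from rfl, map_sum, Finset.sum_mul]
    refine Fintype.sum_equiv (Equiv.mulLeft h) _ _ fun g => ?_
    rw [map_mul, Equiv.coe_mulLeft, mul_assoc]
    congr 1
    · rw [RingHom.mapMatrix_apply, Matrix.map_map]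
      congr 1
      refine funext fun x => ?_
      change σ h (σ g x) = σ (h * g) x
      rw [← AlgHom.comp_apply, ← Algebra.TensorProduct.map_comp]
      refine DFunLike.congr_fun (Algebra.TensorProduct.ext' fun u v => ?_) x
      rw [Algebra.TensorProduct.map_tmul, Algebra.TensorProduct.map_tmul]
      simp [act, mul_smul]
    · rw [RingHom.mapMatrix_apply]
      simp only [r]
      rw [show (((ρ g : Matrix (Fin n) (Fin n) k).transpose).map (algebraMap k D)).map (σ h).toRingHom =
        ((ρ g : Matrix (Fin n) (Fin n) k).transpose).map (algebraMap k D) by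
          ext i j; exact (σ h).commutes _]
      rw [← Matrix.map_mul, ← Matrix.transpose_mul, ← Units.val_mul, ← map_mul]
  have hδ : ∀ h : G, σ h M.det = M.det := fun h => by
    conv_rhs => rw [← hMinv h, Matrix.det_mul]
    rw [show (r h).det = algebraMap k D ((ρ h : Matrix (Fin n) (Fin n) k).transpose).det from
      (RingHom.map_det (algebraMap k D) _).symm, Matrix.det_transpose, hdet, map_one, mul_one]
    exact (RingHom.map_det (σ h).toRingHom M)
  let π := toRel P (k := k) (n := n)
  let Δ : (MvPolynomial (Fin n) k) ⊗[P] (MvPolynomial (Fin n) k) := π M.det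
  have hπf : ∀ i, π (f i) = 0 := fun i => by
    simp only [π, f, toRel, map_sub, Algebra.TensorProduct.lift_tmul, map_one, mul_one, one_mul]
    simp only [AlgHom.coe_restrictScalars', Algebra.TensorProduct.includeLeft_apply,
      Algebra.TensorProduct.includeRight_apply]
    rw [Algebra.algebraMap_eq_smul_one (R := P) (t i), TensorProduct.smul_tmul, sub_self]
  have hann : ∀ b : (MvPolynomial (Fin n) k), b ⊗ₜ[P] (1 : (MvPolynomial (Fin n) k)) * Δ = (1 : (MvPolynomial (Fin n) k)) ⊗ₜ[P] b * Δ := by
    intro b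
    have hd : ∀ j, π (d j * M.det) = 0 := by
      intro j
      have h1 : M.adjugate.mulVec f = M.det • d := by
        rw [← hMd, Matrix.mulVec_mulVec, Matrix.adjugate_mul, Matrix.smul_mulVec, Matrix.one_mulVec]
      rw [mul_comm, ← smul_eq_mul, ← Pi.smul_apply, ← h1]
      simp [Matrix.mulVec, dotProduct, map_sum, hπf]
    have hmem : π (b ⊗ₜ[k] (1 : (MvPolynomial (Fin n) k)) - (1 : (MvPolynomial (Fin n) k)) ⊗ₜ[k] b) * Δ = 0 := by
      suffices h : ∀ e ∈ Ideal.span (Set.range d), π e * Δ = 0 from h _ (diag_mem b)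
      intro e he
      induction he using Submodule.span_induction with
      | mem x hx =>
        obtain ⟨j, rfl⟩ := hx
        exact (map_mul π _ _).symm.trans (hd j)
      | zero => rw [map_zero, zero_mul]
      | add x y _ _ hx hy => rw [map_add, add_mul, hx, hy, add_zero]
      | smul e x _ hx => rw [smul_eq_mul, map_mul, mul_assoc, hx, mul_zero]
    rw [map_sub, sub_mul, sub_eq_zero] at hmem
    simpa [π, toRel] using hmem
  have hne : ∀ m : Ideal (MvPolynomial (Fin n) k), m.IsMaximal → (Ideal.Quotient.mkₐ P m).toLinearMap.rTensor (MvPolynomial (Fin n) k) Δ ≠ 0 :=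
    fun m hm => by
    letI := Ideal.Quotient.field m
    exact rTensor_det_ne_zero (P := P) t hgen (Ideal.Quotient.mkₐ P m) Ideal.Quotient.mk_surjective a ha M hMd
  obtain ⟨ψ, hψ1, hψ⟩ := exists_dual_generator Δ hann hne
  -- equivariance
  have hequiv : ∀ (h : G) (φ : (MvPolynomial (Fin n) k) →ₗ[P] P), contract (φ ∘ₗ (actP h⁻¹).toLinearMap) Δ = h • contract φ Δ := by
    intro h φ
    conv_lhs => rw [show Δ = π (σ h M.det) by rw [hδ]]
    simp only [Δ]
    generalize M.det = δ
    induction δ using TensorProduct.induction_on with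
    | zero => simp
    | add p q hp hq => simp only [map_add, hp, hq, smul_add]
    | tmul p q => rw [hσt]; simp [π, toRel, actP, smul_comm h]
  have hinj : ∀ φ φ' : (MvPolynomial (Fin n) k) →ₗ[P] P, contract φ Δ = contract φ' Δ → φ = φ' := fun φ φ' h =>
    LinearMap.ext fun v => by rw [hψ φ, hψ φ', h]
  have hψinv : ∀ (h : G) (v : (MvPolynomial (Fin n) k)), ψ (h • v) = ψ v := fun h v => by
    have := hinj (ψ ∘ₗ (actP h⁻¹⁻¹).toLinearMap) ψ (by rw [hequiv, hψ1, smul_one])
    simpa [actP] using LinearMap.congr_fun this v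
  have hψE : ∀ v, ψ (E v) = ψ v := fun v => by
    rw [hEapp]
    have : ψ (∑ g : G, g • v) = (Fintype.card G : ℕ) • ψ v := by
      rw [map_sum, Finset.sum_congr rfl (fun g _ => hψinv g v), Finset.sum_const, Finset.card_univ]
    rw [LinearMap.map_smul_of_tower, this, ← hcard, ← Nat.cast_smul_eq_nsmul k, smul_smul, hc,
      inv_mul_cancel₀ hN, one_smul]
  let η : Inv →ₗ[P] P := ψ ∘ₗ ι
  have hχ : ∀ χ : Inv →ₗ[P] P, ∃ b : Inv, ∀ a, χ a = η (b * a) := by
    intro χ
    let φ : (MvPolynomial (Fin n) k) →ₗ[P] P := χ ∘ₗ Eₐ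
    have hb : ∀ h : G, h • contract φ Δ = contract φ Δ := fun h => by
      rw [← hequiv]
      refine congrArg (fun ψ' => contract ψ' Δ) (LinearMap.ext fun v => ?_)
      simp only [φ, LinearMap.comp_apply, actP, AlgHom.toLinearMap_apply, MulSemiringAction.toAlgHom_apply]
      congr 1
      refine Subtype.ext ?_
      change E (h⁻¹ • v) = E v
      rw [hEapp, hEapp]
      congr 1
      exact Fintype.sum_equiv (Equiv.mulRight h⁻¹) _ _ fun g => by simp [mul_smul]
    refine ⟨⟨contract φ Δ, hb⟩, fun a => ?_⟩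
    have h1 : χ a = φ (a : (MvPolynomial (Fin n) k)) := by
      simp only [φ, LinearMap.comp_apply]
      rw [show Eₐ (a : (MvPolynomial (Fin n) k)) = a from LinearMap.congr_fun hEι a]
    rw [h1, hψ φ]
    rfl
  haveI : IsNoetherianRing Inv := IsNoetherianRing.of_finite P Inv
  haveI : Module.Flat P Inv := inferInstance
  haveI : LocCoh.IsGorensteinRing P := GorLib.isGorensteinRing_of_isRegularRing P
  refine GorLib.isGorensteinRing_of_fibres (A := P) fun p _ => ?_
  refine isGorensteinRing_of_functional (K := p.ResidueField) (Q := p.Fiber Inv)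
    ((TensorProduct.AlgebraTensorModule.rid P p.ResidueField p.ResidueField).toLinearMap ∘ₗ η.baseChange p.ResidueField)
    fun q hq => ?_
  obtain ⟨N, f', g', -, -, hfg⟩ := Module.Finite.exists_comp_eq_id_of_projective P Inv
  have hall : ∀ χ : Inv →ₗ[P] P, TensorProduct.rid P p.ResidueField (χ.lTensor p.ResidueField q) = 0 := by
    intro χ
    obtain ⟨b, hb⟩ := hχ χ
    refine Eq.trans ?_ (hq ((1 : p.ResidueField) ⊗ₜ[P] b))
    clear hq
    induction q using TensorProduct.induction_on with
    | zero => simp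
    | add x y hx hy => simp only [map_add, add_mul, hx, hy]
    | tmul x y => simp [hb, mul_comm b y]
  have hrec : ∀ w : p.Fiber Inv, w = ∑ i : Fin N,
      (TensorProduct.rid P p.ResidueField ((LinearMap.proj i ∘ₗ g').lTensor p.ResidueField w)) ⊗ₜ[P] f' (Pi.single i 1) := by
    intro w
    induction w using TensorProduct.induction_on with
    | zero => simp
    | add x y hx hy => conv_lhs => rw [hx, hy, ← Finset.sum_add_distrib]
                       simp [add_tmul]
    | tmul x y =>
      simp only [LinearMap.lTensor_tmul, TensorProduct.rid_tmul, LinearMap.comp_apply, LinearMap.proj_apply]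
      simp only [TensorProduct.smul_tmul, ← TensorProduct.tmul_sum, ← map_smul, ← map_sum]
      congr 1
      conv_lhs => rw [← LinearMap.id_apply (R := P) y, ← hfg]
      rw [LinearMap.comp_apply]
      congr 1
      exact (pi_eq_sum_univ' (g' y)).trans rfl
  rw [hrec q]
  exact Finset.sum_eq_zero fun i _ => by rw [hall, zero_tmul]

/-- The invariants are Gorenstein. -/
theorem isGorensteinRing_fixedPoints [MulSemiringAction G (MvPolynomial (Fin n) k)] [SMulCommClass G k (MvPolynomial (Fin n) k)]
    (hG : IsUnit ((Nat.card G : ℕ) : k)) (ρ : G →* Matrix.GeneralLinearGroup (Fin n) k)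
    (hdet : ∀ g : G, Matrix.det ((ρ g : Matrix (Fin n) (Fin n) k)) = 1)
    (hX : ∀ (g : G) (i : Fin n), g • (MvPolynomial.X i : (MvPolynomial (Fin n) k)) =
      ∑ j : Fin n, (ρ g : Matrix (Fin n) (Fin n) k) j i • (MvPolynomial.X j : (MvPolynomial (Fin n) k))) :
    LocCoh.IsGorensteinRing (FixedPoints.subalgebra k (MvPolynomial (Fin n) k) G) := by
  classical
  letI := Fintype.ofFinite G
  let Inv := FixedPoints.subalgebra k (MvPolynomial (Fin n) k) G
  haveI : Algebra.IsInvariant Inv (MvPolynomial (Fin n) k) G := ⟨fun b hb => ⟨⟨b, hb⟩, rfl⟩⟩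
  haveI : Algebra.IsIntegral Inv (MvPolynomial (Fin n) k) := Algebra.IsInvariant.isIntegral Inv (MvPolynomial (Fin n) k) G
  haveI : Algebra.FiniteType Inv (MvPolynomial (Fin n) k) := Algebra.FiniteType.of_restrictScalars_finiteType k Inv (MvPolynomial (Fin n) k)
  haveI : Module.Finite Inv (MvPolynomial (Fin n) k) := Algebra.IsIntegral.finite
  haveI : Algebra.FiniteType k Inv := ⟨fg_of_fg_of_fg k Inv (MvPolynomial (Fin n) k) (Algebra.FiniteType.out)
    Module.Finite.fg_top Subtype.val_injective⟩
  obtain ⟨s, g₀, hg₀, hint⟩ := exists_integral_inj_algHom_of_fg k Inv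
  obtain rfl : s = n := by
    letI := g₀.toRingHom.toAlgebra
    haveI : Algebra.IsIntegral (MvPolynomial (Fin s) k) Inv := ⟨hint⟩
    have h1 := DimTrdeg.ringKrullDim_eq_of_isIntegral (MvPolynomial (Fin s) k) Inv hg₀
    have h2 := DimTrdeg.ringKrullDim_eq_of_isIntegral Inv (MvPolynomial (Fin n) k) Subtype.val_injective
    rw [h1, MvPolynomial.ringKrullDim_of_isNoetherianRing, MvPolynomial.ringKrullDim_of_isNoetherianRing,
      ringKrullDim_eq_zero_of_field, zero_add, zero_add] at h2
    simp only [Nat.card_eq_fintype_card, Fintype.card_fin] at h2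
    exact_mod_cast h2.symm
  let P := MvPolynomial (ULift.{u} (Fin s)) k
  let g : P →ₐ[k] Inv := g₀.comp (MvPolynomial.renameEquiv k Equiv.ulift).toAlgHom
  letI algP : Algebra P Inv := g.toRingHom.toAlgebra
  haveI : IsScalarTower k P Inv := IsScalarTower.of_algebraMap_eq fun x => (g.commutes x).symm
  haveI : Algebra.IsIntegral P Inv := ⟨fun x => by
    obtain ⟨q, hq, hq'⟩ := hint x
    refine ⟨q.map (MvPolynomial.renameEquiv k Equiv.ulift).symm.toRingEquiv.toRingHom, hq.map _, ?_⟩
    rw [Polynomial.eval₂_map]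
    refine Eq.trans ?_ hq'
    refine congrArg (fun φ : MvPolynomial (Fin s) k →+* Inv => Polynomial.eval₂ φ x q) (RingHom.ext fun z => ?_)
    change g₀ ((MvPolynomial.renameEquiv k Equiv.ulift) ((MvPolynomial.renameEquiv k Equiv.ulift).symm z)) = g₀ z
    rw [AlgEquiv.apply_symm_apply]⟩
  haveI : Algebra.FiniteType P Inv := Algebra.FiniteType.of_restrictScalars_finiteType k P Inv
  haveI : Module.Finite P Inv := Algebra.IsIntegral.finite
  letI algPB : Algebra P (MvPolynomial (Fin s) k) := ((Subalgebra.val Inv).comp g).toRingHom.toAlgebra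
  haveI : IsScalarTower P Inv (MvPolynomial (Fin s) k) := IsScalarTower.of_algebraMap_eq fun x => rfl
  haveI : IsScalarTower k P (MvPolynomial (Fin s) k) :=
    IsScalarTower.of_algebraMap_eq fun x => (((Subalgebra.val Inv).comp g).commutes x).symm
  haveI : Module.Finite P (MvPolynomial (Fin s) k) := Module.Finite.trans Inv _
  haveI := DepthLib.CMPoly.isRegularRing_field k
  refine isGorensteinRing_aux hG ρ hdet hX (P := P) ?_ (fun i => MvPolynomial.X (ULift.up i)) ?_
  · intro m hm
    let e := (MvPolynomial.renameEquiv k (Equiv.ulift.{u} (α := Fin s))).toRingEquiv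
    haveI : (m.comap e.symm).IsMaximal := Ideal.comap_isMaximal_of_surjective _ e.symm.surjective
    exact (RingEquiv.height_comap e.symm m).symm.trans (height_eq_n _)
  · rw [eq_top_iff, ← MvPolynomial.adjoin_range_X, Algebra.adjoin_le_iff]
    rintro _ ⟨⟨i⟩, rfl⟩
    exact Algebra.subset_adjoin ⟨i, rfl⟩

end Main

end Groth.Agent.InvGor
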